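import Cfsg.Agent.H907.Tri9.Chev
import Cfsg.Agent.H350.Tri.Defs
import Cfsg.Agent.H129.TorusUntw
import Cfsg.Agent.BpExc.RowsUntw
import Cfsg.Agent.BpExc.EmbSplit
import Cfsg.Agent.H70.OutCount
import Cfsg.Agent.H469.Exc.Model
import Cfsg.Agent.S1082

/-!
# TRI-9 of S2187: an elementary abelian group of order nine in the fixed points of a triality

* `exists_nine` : `θ` a graph automorphism of order 3 of `Y4 r` commuting with the Frobenius map;
* `exists_nine_std` : the standard triality.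

The lemmas `phi_glMap`, ..., `sq_mem` are helper12's (`H12/Bal/TriMain.lean`, which imports too much).
-/

set_option autoImplicit false
set_option linter.unusedSectionVars false
set_option linter.style.haveILetI false

namespace Cfsg.Agent.H907.Tri9

open CoxeterSystem Cfsg Cfsg.Lie Cfsg.Agent.ChevalleyStructure Cfsg.Agent.ChevalleyStructure.Elts
open Cfsg.Agent.ChevalleyStructure.CoxeterGeomTypes
open Cfsg.Agent.ChevalleyStructure.GraphSymm (symmD4a)
open Cfsg.Agent.ChevalleyStructure.SignedSymm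
open Cfsg.Agent.Nodes.RGDTwD4 Cfsg.Agent.Nodes.RGDChev

open Cfsg.Agent.BpExc.FamTw.Gr
open Cfsg.Agent.BpExc Cfsg.Agent.BpExc.FamField Cfsg.Agent.BpExc.FamUntw Cfsg.Agent.BpExc.FamInst
open Cfsg.Agent.GpExc.Field
open Cfsg.Agent.H469.Exc (KK locFin)
open Cfsg.Agent.BpExc.TowChev (LocFin)
open Cfsg.Agent.H350.Tri (Y4 gr4)

universe u

/-- An automorphism preserving the image induces an automorphism. -/
theorem exists_beta {Y D₀ : Type*} [Group Y] [Group D₀] [Finite D₀] {ι : D₀ →* Y} (hι : Function.Injective ι)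
    {θ : MulAut Y} (hθ : ∀ a, ∃ b, ι b = θ (ι a)) : ∃ β : MulAut D₀, ∀ a, ι (β a) = θ (ι a) := by
  choose g hg using hθ
  let φ : D₀ →* D₀ := MonoidHom.mk' g (fun a b => hι (by rw [hg, map_mul, map_mul, map_mul, hg, hg]))
  have hφ : Function.Injective φ := fun a b hab => hι (θ.injective (by rw [← hg, ← hg]; exact congrArg ι hab))
  exact ⟨MulEquiv.ofBijective φ (Finite.injective_iff_bijective.1 hφ), hg⟩

theorem inv_D4 : H129.TorusChar.InvC chevD4 4 2 ![![2,2,1,1],![2,4,2,2],![1,2,2,1],![1,2,1,2]] := by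
  unfold H129.TorusChar.InvC
  decide +kernel

section Emb

variable {k : Type u} [Field k] [IsAlgClosed k] (hk : LocFin k) (r : ℕ) [Fact r.Prime] [CharP k r]
  {F : Type u} [Field F] [Fintype F] {n : ℕ} (hn : Fintype.card F = r ^ n) (f : F →+* k)

theorem phi_glMap (y : ↥(chevD4.group k)) :
    ((phi chevD4 k r n y : ↥(chevD4.group k)) : GL chevD4.Idx k) =
      glMap chevD4 ((frb k r n : k ≃+* k) : k →+* k) (y : GL chevD4.Idx k) := by
  apply Units.ext
  rfl

include hn in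
theorem frb_card (t : k) : ((frb k r n : k ≃+* k) : k →+* k) t = t ^ Fintype.card F := by
  rw [hn]
  exact frb_apply _ r n t

include hn in
theorem phi_emb (a : ↥(chevD4.group F)) : phi chevD4 k r n (emb hp.inList f a) = emb hp.inList f a :=
  Emb.emb_fix hp.inList (frb_card r hn) (phi_glMap r) a

include hn in
theorem norm_emb {y : ↥(chevD4.group k)} (hy : phi chevD4 k r n y = y) (a : ↥(chevD4.group F)) :
    ∃ b, emb hp.inList f b = y * emb hp.inList f a * y⁻¹ := by
  obtain ⟨b, hb⟩ := Emb.conj_mem_range hp.inList (f := f) (frb_card r hn) (phi_glMap r) hy (n := emb hp.inList f a) ⟨a, rfl⟩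
  exact ⟨b, hb⟩

theorem gr_emb (a : ↥(chevD4.group F)) : gr hp.inList symmD4a (emb hp.inList f a) = emb hp.inList f (gr hp.inList symmD4a a) := by
  apply Subtype.ext
  rw [coe_gr, coe_emb, coe_emb, coe_gr, map_mul, map_mul, map_inv, glMap_P]

include hn in
/-- the squares of the fixed points -/
theorem sq_mem {y : ↥(chevD4.group k)} (hy : phi chevD4 k r n y = y) : y ^ 2 ∈ (emb hp.inList f).range := by
  have hφ : ((frb k r n : k ≃+* k) : k →+* k) = iterateFrobenius k r n := by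
    ext t
    rw [frb_card r hn, hn, iterateFrobenius_def]
  have hphi : ∀ y, H129.TorusUntw.phi chevD4 k r n y = phi chevD4 k r n y := by
    intro y
    apply Subtype.ext
    rw [H129.TorusUntw.coe_phi, phi_glMap, hφ]
  obtain ⟨x, t, ht, rfl⟩ := H129.TorusUntw.fix_split hp f hn ((hphi y).trans hy)
  have hx : phi chevD4 k r n (emb hp.inList f x) = emb hp.inList f x := phi_emb r hn f x
  have hf : phi chevD4 k r n t = t := by
    rw [map_mul, hx] at hy
    exact mul_left_cancel hy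
  obtain ⟨x', hx'⟩ := norm_emb r hn f hf x
  have h1 : (emb hp.inList f x * t) ^ 2 = emb hp.inList f x * (t * emb hp.inList f x * t⁻¹) * t ^ 2 := by
    rw [pow_two, pow_two]
    group
  have h2 : t * emb hp.inList f x * t⁻¹ = emb hp.inList f x' := hx'.symm
  rw [h1, h2]
  exact mul_mem (mul_mem ⟨x, rfl⟩ ⟨x', rfl⟩)
    (H129.TorusUntw.fix_pow hp coxeterD4.toCoxeterSystem f hn inv_D4 two_ne_zero ht ((hphi t).trans hf))

theorem grp_emb (j : ℕ) (a : ↥(chevD4.group F)) :
    (gr hp.inList symmD4a ^ j : MulAut ↥(chevD4.group k)) (emb hp.inList f a) =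
      emb hp.inList f ((gr hp.inList symmD4a ^ j : MulAut ↥(chevD4.group F)) a) := by
  induction j generalizing a with
  | zero => rfl
  | succ j ih => rw [pow_succ, pow_succ, MulAut.mul_apply, MulAut.mul_apply, gr_emb, ih]

theorem exists_model [Finite F] : ∃ _ : Cfsg.Agent.LieClassical.OrthTrans.Good
    (Cfsg.Agent.LieClassical.QuadForms.plusForm 4 F), Nonempty (↥(chevD4.group F) ≃* H198.TriAut.P8 F) := by
  have hG := Cfsg.Agent.AutOrth.Main.good_plus (F := F) (m := 4) (by omega)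
  obtain ⟨e0⟩ := Cfsg.Agent.S1082.result (F := F)
  rw [← Cfsg.Agent.LieClassical.OrthForms.coe_plusForm, Cfsg.Agent.AutOrth.Main.plusForm_eq] at e0
  exact ⟨hG, ⟨e0.trans (Cfsg.Agent.AutOrth.Main.pe hG)⟩⟩

include hn f in
/-- the main step -/
theorem exists_pair_aux {θ : MulAut ↥(chevD4.group k)} {u : ↥(chevD4.group k)} (hu : phi chevD4 k r n u = u) {j : ℕ}
    (hj : j = 1 ∨ j = 2) (hθ : θ = MulAut.conj u * gr hp.inList symmD4a ^ j) (h3 : θ ^ 3 = 1) :
    ∃ a b : ↥(chevD4.group k), Pair3 a b ∧ (θ a = a ∧ θ b = b) ∧ phi chevD4 k r n a = a ∧ phi chevD4 k r n b = b := by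
  have hθa : ∀ a, θ (emb hp.inList f a) =
      u * emb hp.inList f ((gr hp.inList symmD4a ^ j : MulAut ↥(chevD4.group F)) a) * u⁻¹ := by
    intro a
    rw [hθ, MulAut.mul_apply, MulAut.conj_apply, grp_emb]
  obtain ⟨β, hβ⟩ := exists_beta (ι := emb hp.inList f) (θ := θ) (emb_injective hp.inList f) (fun a => by
    rw [hθa]
    exact norm_emb r hn f hu _)
  have hβ3 : β ^ 3 = 1 := by
    have key : ∀ (m : ℕ) (a : ↥(chevD4.group F)), emb hp.inList f ((β ^ m) a) = (θ ^ m) (emb hp.inList f a) := by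
      intro m
      induction m with
      | zero => intro a; rfl
      | succ m ih => intro a; rw [pow_succ, pow_succ, MulAut.mul_apply, MulAut.mul_apply, ih, hβ]
    apply MulEquiv.ext
    intro a
    apply emb_injective hp.inList f
    rw [key, h3]
    rfl
  obtain ⟨g, hg⟩ : ∃ g : MulAut ↥(chevD4.group F), g = gr hp.inList symmD4a ^ j := ⟨_, rfl⟩
  have hδ : ∀ a, emb hp.inList f ((β * g⁻¹) a) = u * emb hp.inList f a * u⁻¹ := by
    intro a
    rw [MulAut.mul_apply, hβ, hθa, ← hg, MulAut.apply_inv_self]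
  obtain ⟨b, hb⟩ := sq_mem r hn f hu
  have hδ2 : (β * g⁻¹) ^ 2 = MulAut.conj b := by
    apply MulEquiv.ext
    intro a
    apply emb_injective hp.inList f
    rw [pow_two, MulAut.mul_apply, hδ, hδ, MulAut.conj_apply, map_mul, map_mul, map_inv, hb, pow_two]
    group
  obtain ⟨hG, ⟨e⟩⟩ := exists_model (F := F)
  have hx := not_mem_range hG e hj hβ3 (δ := β * g⁻¹) (by rw [hg, inv_mul_cancel_right]) hδ2
  obtain ⟨a, b, hab, ha, hb⟩ := pair_P8 hG hx (by rw [← map_pow, hβ3, map_one])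
  have key : ∀ y : H198.TriAut.P8 F, MulAut.congr e β y = y → θ (emb hp.inList f (e.symm y)) =
      emb hp.inList f (e.symm y) := by
    intro y hy
    have h1 : e (β (e.symm y)) = y := hy
    rw [← hβ]
    congr 1
    apply e.injective
    rw [h1, e.apply_symm_apply]
  refine ⟨emb hp.inList f (e.symm a), emb hp.inList f (e.symm b), (hab.map e.symm.toMonoidHom e.symm.injective).map
    (emb hp.inList f) (emb_injective hp.inList f), ⟨key a ha, key b hb⟩, phi_emb r hn f _, phi_emb r hn f _⟩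

end Emb

variable {r : ℕ} [Fact r.Prime]

theorem gr4_comm (n : ℕ) : gr4 r * phi chevD4 (KK r) r n = phi chevD4 (KK r) r n * gr4 r :=
  gr_mul_fld hp.inList symmD4a _

theorem gr4_cube : gr4 r ^ 3 = 1 := gr_cube hp.inList symmD4a (by decide +kernel)

theorem eq_of_comm_abs {Y : Type*} [Group Y] (hZ : Subgroup.center Y = ⊥) {g φ : MulAut Y} (hg : g * φ = φ * g)
    {u : Y} (h : MulAut.conj u * g * φ = φ * (MulAut.conj u * g)) : φ u = u := by
  have h1 : MulAut.conj u = MulAut.conj (φ u) := by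
    have h2 : φ * MulAut.conj u * φ⁻¹ = MulAut.conj (φ u) := by
      apply MulEquiv.ext
      intro y
      rw [MulAut.mul_apply, MulAut.mul_apply, MulAut.conj_apply, MulAut.conj_apply, map_mul, map_mul, map_inv,
        MulAut.apply_inv_self]
    have h3 : MulAut.conj u * g * φ * (g * φ)⁻¹ = φ * (MulAut.conj u * g) * (φ * g)⁻¹ := by rw [h, hg]
    have h4 : MulAut.conj u * g * φ * (g * φ)⁻¹ = MulAut.conj u := by group
    have h5 : φ * (MulAut.conj u * g) * (φ * g)⁻¹ = φ * MulAut.conj u * φ⁻¹ := by group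
    rw [h4, h5, h2] at h3
    exact h3
  have h2 : u⁻¹ * φ u ∈ Subgroup.center Y := by
    rw [Subgroup.mem_center_iff]
    intro y
    have h3 := DFunLike.congr_fun h1 y
    rw [MulAut.conj_apply, MulAut.conj_apply] at h3
    calc y * (u⁻¹ * φ u) = u⁻¹ * (u * y * u⁻¹) * φ u := by group
      _ = u⁻¹ * (φ u * y * (φ u)⁻¹) * φ u := by rw [h3]
      _ = u⁻¹ * φ u * y := by group
  rw [hZ, Subgroup.mem_bot] at h2
  exact (inv_mul_eq_one.1 h2).symm

/-- **TRI-9a**, all characteristics. -/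
theorem exists_nine' {n : ℕ} (hn : 0 < n) {θ : MulAut (Y4 r)}
    (hθ : ∃ u, θ = MulAut.conj u * gr4 r ∨ θ = MulAut.conj u * gr4 r ^ 2) (h3 : θ ^ 3 = 1)
    (hc : Commute θ (phi chevD4 (KK r) r n)) :
    ∃ A : Subgroup (Y4 r), IsElementaryAbelian 3 A ∧ Nat.card ↥A = 9 ∧
      ∀ y ∈ A, θ y = y ∧ phi chevD4 (KK r) r n y = y := by
  obtain ⟨u, hu⟩ := hθ
  obtain ⟨j, hj, hθj⟩ : ∃ j, (j = 1 ∨ j = 2) ∧ θ = MulAut.conj u * gr4 r ^ j := by
    rcases hu with hu | hu
    · exact ⟨1, Or.inl rfl, by rw [pow_one]; exact hu⟩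
    · exact ⟨2, Or.inr rfl, hu⟩
  have hcj : gr4 r ^ j * phi chevD4 (KK r) r n = phi chevD4 (KK r) r n * gr4 r ^ j :=
    (Commute.pow_left (gr4_comm n) j).eq
  have hfu : phi chevD4 (KK r) r n u = u :=
    eq_of_comm_abs (H70.OutCount.center_eq_bot hp.inList) hcj (by
      have h1 := hc.eq
      rw [hθj] at h1
      exact h1)
  have hfin : Fintype (GaloisField r n) := Fintype.ofFinite _
  have hF : Fintype.card (GaloisField r n) = r ^ n := by
    rw [← Nat.card_eq_fintype_card, GaloisField.card r n hn.ne']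
  obtain ⟨f⟩ := Cfsg.Agent.BpExc.RowsUntw.exists_emb r (GaloisField r n)
  obtain ⟨a, b, hab, ⟨h1, h2⟩, h4, h5⟩ := exists_pair_aux r hF f hfu hj hθj h3
  obtain ⟨A, hA, hA9, -, -, hAK⟩ := hab.nine
  refine ⟨A, hA, hA9, fun y hy => ?_⟩
  have h6 := hAK (θ.toMonoidHom.eqLocus (MonoidHom.id _) ⊓
    (phi chevD4 (KK r) r n).toMonoidHom.eqLocus (MonoidHom.id _)) ⟨h1, h4⟩ ⟨h2, h5⟩ hy
  exact h6

/-- **TRI-9a** -/
theorem exists_nine (hr5 : 5 ≤ r) {n : ℕ} (hn : 0 < n) {θ : MulAut (Y4 r)}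
    (hθ : ∃ u, θ = MulAut.conj u * gr4 r ∨ θ = MulAut.conj u * gr4 r ^ 2) (h3 : θ ^ 3 = 1)
    (hc : Commute θ (phi chevD4 (KK r) r n)) :
    ∃ A : Subgroup (Y4 r), IsElementaryAbelian 3 A ∧ Nat.card ↥A = 9 ∧
      ∀ y ∈ A, θ y = y ∧ phi chevD4 (KK r) r n y = y := exists_nine' hn hθ h3 hc

/-- **TRI-9b**, with one group for all Frobenius maps -/
theorem exists_nine_all : ∃ A : Subgroup (Y4 r), IsElementaryAbelian 3 A ∧ Nat.card ↥A = 9 ∧
    ∀ y ∈ A, gr4 r y = y ∧ ∀ n, phi chevD4 (KK r) r n y = y := by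
  obtain ⟨A, hA, hA9, h⟩ := exists_nine' (r := r) one_pos (θ := gr4 r) ⟨1, Or.inl (by rw [map_one, one_mul])⟩ gr4_cube
    (gr4_comm 1)
  refine ⟨A, hA, hA9, fun y hy => ⟨(h y hy).1, fun n => ?_⟩⟩
  have h1 := phi_pow (D := chevD4) (k := KK r) r 1 n
  rw [one_mul] at h1
  rw [← h1]
  have h2 := (h y hy).2
  clear h1
  induction n with
  | zero => rfl
  | succ n ih => rw [pow_succ, MulAut.mul_apply, h2, ih]

/-- **TRI-9b** -/
theorem exists_nine_std (hr3 : r ≠ 3) {n i : ℕ} :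
    ∃ A : Subgroup (Y4 r), IsElementaryAbelian 3 A ∧ Nat.card ↥A = 9 ∧
      ∀ y ∈ A, gr4 r y = y ∧ phi chevD4 (KK r) r n y = y := by
  obtain ⟨A, hA, hA9, h⟩ := exists_nine_all (r := r)
  exact ⟨A, hA, hA9, fun y hy => ⟨(h y hy).1, (h y hy).2 n⟩⟩

end Cfsg.Agent.H907.Tri9
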