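import Cfsg.Agent.H907.Tri9.Oct
import Cfsg.Agent.H521.RowD4

/-!
# TRI-9 of S2187: automorphisms of `D₄(F)` which are not in the range of `Ψ`
-/

set_option autoImplicit false

namespace Cfsg.Agent.H907.Tri9

open Module QuadraticMap Cfsg.Agent.LieClassical.OrthCore Cfsg.Agent.LieClassical.OrthTrans
  Cfsg.Agent.LieClassical.OrthSimple Cfsg.Agent.ClassicalGeometry.OrthAut1
  Cfsg.Agent.ClassicalGeometry.OrthSemi Cfsg.Agent.H198.Classes
  Cfsg.Agent.LieClassical.QuadForms Cfsg.Agent.H198.ClassesPlus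
  Cfsg.Agent.ClassicalGeometry.TrialityOct Cfsg.Agent.ClassicalGeometry.Triality
  Cfsg.Agent.ClassicalGeometry.TrialitySpaces Cfsg.Agent.H198.TriBase Cfsg.Agent.H198.TriAut
  Cfsg.Agent.H206.Balance Cfsg.Agent.H198.BalVar Cfsg.Agent.H198.TriDia
open Cfsg Cfsg.Lie Subgroup
open Cfsg.Agent.ChevalleyStructure Cfsg.Agent.ChevalleyStructure.Elts Cfsg.Agent.ChevalleyStructure.SignedSymm
open Cfsg.Agent.ChevalleyStructure.GraphSymm (symmD4a)
open Cfsg.Agent.BpExc.FamTw.Gr Cfsg.Agent.H79 Cfsg.Agent.H521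

universe u

variable {F : Type u} [Field F]

theorem conj_mem_range (p : P8 F) : MulAut.conj p ∈ (Psi (plusForm 4 F)).range := by
  obtain ⟨g, rfl⟩ := QuotientGroup.mk_surjective p
  refine ⟨gamO _ ⟨g.1, E_le_O g.2⟩, ?_⟩
  apply MulEquiv.ext
  intro x
  obtain ⟨k, rfl⟩ := QuotientGroup.mk_surjective x
  rw [Psi_mk, MulAut.conj_apply, ← QuotientGroup.mk_inv, ← QuotientGroup.mk_mul, ← QuotientGroup.mk_mul]
  congr 1

theorem exists_lin_part (M : G8 F) : ∃ (σ : F ≃+* F) (M0 : G8 F) (c : F),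
    IsSS (plusForm 4 F) (RingEquiv.refl F) c M0.1 ∧ M = M0 * fG σ := by
  obtain ⟨σ, c, hs⟩ := M.2
  have hf : IsSS (plusForm 4 F) σ 1 (fG σ).1 := isSS_fP σ
  have hs0 := hs.mul hf.inv
  have e1 : σ.symm.trans σ = RingEquiv.refl F := by
    ext a
    exact σ.apply_symm_apply a
  rw [e1] at hs0
  exact ⟨σ, M * (fG σ)⁻¹, _, hs0, (inv_mul_cancel_right M (fG σ)).symm⟩

theorem c3_ne : OutAbs.c3 ≠ 1 := by decide

/-- the triality is the graph automorphism of a 3-cycle -/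
theorem gr_eq_gamma : gr (L := F) GraphD4.memD4 symmD4a = GraphD4.gammaD4 F OutAbs.c3 := by
  have h1 : GraphD4.IsG GraphD4.memD4 F (GraphD4.extD4 OutAbs.c3) (GraphD4.gammaD4 F OutAbs.c3) :=
    GraphD4.gammaFun_spec F _
  have h2 := GraphD4.isG_of_symm (F := F) symmD4a _ _ GraphD4.extD4_c3 S1081.specD4a
  rw [h1.unique h2]
  exact MulEquiv.ext fun g => Subtype.ext rfl

/-- the action on the three outer nodes -/
theorem exists_pi_abs [Finite F] {X : Type u} [Group X] (e : ↥(chevD4.group F) ≃* X) {ρ κ : MulAut X} (hρ3 : ρ ^ 3 = 1)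
    (hρ : (MulAut.congr e).symm ρ ∉ RowChev.II F) (hκ : κ * ρ * κ⁻¹ = ρ⁻¹) :
    ∃ π : MulAut ↥(chevD4.group F) →* Equiv.Perm (Fin 3), (∀ i ∈ RowChev.II F, π i = 1) ∧
      π (gr (L := F) GraphD4.memD4 symmD4a) ≠ 1 ∧
      ∀ φ : MulAut X, φ * ρ = ρ * φ → φ * κ = κ * φ → π ((MulAut.congr e).symm φ) = 1 := by
  set E : MulAut ↥(chevD4.group F) ≃* MulAut X := MulAut.congr e with hE
  have hdata := RowChev.dataD4 F
  have hsq : ∀ d ∈ RowChev.DD F, d * d ∈ RowChev.II F := fun d hd => RowChev.sq_inner hd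
  have hΓ : ∀ g ∈ {g : MulAut ↥(chevD4.group F) | chevD4.IsGraphAut g}, ∃ τ, g = GraphD4.gammaD4 F τ :=
    fun g hg => GraphD4.exists_gamma_eq hg
  have hr3 : (E.symm ρ) ^ 3 ∈ RowChev.II F := by
    rw [← map_pow, hρ3, map_one]
    exact one_mem _
  have hk : E.symm κ * E.symm ρ * (E.symm κ)⁻¹ = (E.symm ρ)⁻¹ := by
    rw [← map_inv, ← map_mul, ← map_mul, ← map_inv, hκ]
  obtain ⟨π, hπ, hker⟩ := RowAbs.exists_hom hdata (GraphD4.gammaD4 F) hΓ hsq hr3 hρ hk
  have hI : ∀ i ∈ RowChev.II F, π i = 1 := by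
    intro i hi
    rw [← MonoidHom.mem_ker, hker]
    exact RowAbs.mem_NN_of hi (RowChev.DD F).one_mem (RowChev.FF F).one_mem (by rw [mul_one, mul_one])
  refine ⟨π, hI, ?_, fun φ h1 h2 => ?_⟩
  · -- `π ∘ γ` is bijective
    have hs : Function.Surjective (π.comp (GraphD4.gammaD4 F)) := by
      intro σ
      obtain ⟨θ, rfl⟩ := hπ σ
      obtain ⟨i, hi, d, hd, a, ha, f, hf, rfl⟩ := hdata.fac θ
      obtain ⟨τ, rfl⟩ := hΓ a ha
      refine ⟨τ, ?_⟩
      have e1 : π (i * d) = 1 := by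
        rw [← MonoidHom.mem_ker, hker]
        exact RowAbs.mem_NN_of hi hd (RowChev.FF F).one_mem (by rw [mul_one])
      have e2 : π f = 1 := by
        rw [← MonoidHom.mem_ker, hker]
        exact RowAbs.mem_NN_of (RowChev.II F).one_mem (RowChev.DD F).one_mem hf (by rw [one_mul, one_mul])
      rw [map_mul, map_mul, e1, e2, one_mul, mul_one]
      rfl
    have hi := Finite.injective_iff_surjective.2 hs
    intro h1
    apply c3_ne
    apply hi
    rw [map_one, ← h1, gr_eq_gamma]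
    rfl
  · rw [← MonoidHom.mem_ker, hker]
    refine RowAbs.mem_of_comm hdata (GraphD4.gammaD4 F) hΓ hsq hr3 hρ hk ?_ ?_
    · rw [← map_mul, ← map_mul]
      exact congrArg E.symm h1
    · rw [← map_mul, ← map_mul]
      exact congrArg E.symm h2

theorem rho_not_inner (hG : Good (plusForm 4 F)) (e : ↥(chevD4.group F) ≃* P8 F) :
    (MulAut.congr e).symm (rho hG) ∉ RowChev.II F := by
  rintro ⟨p, hp⟩
  apply rho_not_mem hG
  have h1 := congrArg (MulAut.congr e) hp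
  rw [(MulAut.congr e).apply_symm_apply, RowD4.congr_conj] at h1
  rw [← h1]
  exact conj_mem_range _

theorem fG_comm_kap (σ : F ≃+* F) : Psi (plusForm 4 F) (fG σ) * Psi (plusForm 4 F) (kapG F) =
    Psi (plusForm 4 F) (kapG F) * Psi (plusForm 4 F) (fG σ) :=
  (map_mul (Psi (plusForm 4 F)) (fG σ) (kapG F)).symm.trans
    ((congrArg (Psi (plusForm 4 F)) (RowD4.fG_kap σ)).trans (map_mul (Psi (plusForm 4 F)) (kapG F) (fG σ)))

theorem abs_four {A B : Type*} [Group A] [Group B] (f : A →* B) {x y z : A} (h : x = y * z) (hz : f z = 1)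
    (hy : f y ^ 4 = 1) (hx : f x ^ 3 = 1) : f x = 1 := by
  have h1 : f x = f y := by rw [h, map_mul, hz, mul_one]
  rw [h1] at hx ⊢
  calc f y = f y ^ 4 * (f y ^ 3)⁻¹ := by group
    _ = 1 := by rw [hx, hy, inv_one, mul_one]

/-- the image of the range of `Ψ` in the symmetric group on three letters has no elements of order three -/
theorem pi_eq_one (hG : Good (plusForm 4 F)) {B : Type*} [Group B] (f : MulAut (P8 F) →* B)
    (hI : ∀ p : P8 F, f (MulAut.conj p) = 1) (hf : ∀ σ : F ≃+* F, f (Psi (plusForm 4 F) (fG σ)) = 1) (M : G8 F)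
    (hM : f (Psi (plusForm 4 F) M) ^ 3 = 1) : f (Psi (plusForm 4 F) M) = 1 := by
  obtain ⟨σ, M0, c, h5, hMM⟩ := exists_lin_part M
  obtain ⟨p, hp⟩ := RowD4.Psi_pow_four hG h5
  refine abs_four f (y := Psi (plusForm 4 F) M0) (z := Psi (plusForm 4 F) (fG σ)) ?_ (hf σ) ?_ hM
  · rw [hMM]
    exact map_mul (Psi (plusForm 4 F)) M0 (fG σ)
  · rw [← map_pow]
    exact (congrArg f hp).symm.trans (hI p)

/-- the action on the three outer nodes -/
theorem exists_pi [Finite F] (hG : Good (plusForm 4 F)) (e : ↥(chevD4.group F) ≃* P8 F) :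
    ∃ π : MulAut ↥(chevD4.group F) →* Equiv.Perm (Fin 3), (∀ p, π (MulAut.conj p) = 1) ∧
      π (gr (L := F) GraphD4.memD4 symmD4a) ≠ 1 ∧
      ∀ M : G8 F, π ((MulAut.congr e).symm (Psi (plusForm 4 F) M)) ^ 3 = 1 →
        π ((MulAut.congr e).symm (Psi (plusForm 4 F) M)) = 1 := by
  obtain ⟨π, hI, hgr, hcomm⟩ := exists_pi_abs e (rho_pow_three hG) (rho_not_inner hG e) (RowD4.kap_rho_kap' hG)
  refine ⟨π, fun p => hI _ ⟨p, rfl⟩, hgr, fun M hM => ?_⟩
  exact pi_eq_one hG (π.comp (MulAut.congr e).symm.toMonoidHom)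
    (fun p => hI _ (RowD4.congr_symm_mem_inn e ⟨p, rfl⟩))
    (fun σ => hcomm _ (rho_comm hG (tri_fG σ)).symm (fG_comm_kap σ)) M hM

/-- **The criterion.** -/
theorem not_mem_range [Finite F] (hG : Good (plusForm 4 F)) (e : ↥(chevD4.group F) ≃* P8 F)
    {β δ : MulAut ↥(chevD4.group F)} {j : ℕ} (hj : j = 1 ∨ j = 2) (h3 : β ^ 3 = 1)
    (hβ : β = δ * gr (L := F) GraphD4.memD4 symmD4a ^ j) {b : ↥(chevD4.group F)} (hδ : δ ^ 2 = MulAut.conj b) :
    MulAut.congr e β ∉ (Psi (plusForm 4 F)).range := by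
  rintro ⟨M, hM⟩
  obtain ⟨π, hI, hgr, hπ⟩ := exists_pi hG e
  have hg3 : gr (L := F) GraphD4.memD4 symmD4a ^ 3 = 1 := gr_cube GraphD4.memD4 symmD4a (by decide +kernel)
  have h1 : (MulAut.congr e).symm (Psi (plusForm 4 F) M) = β := by
    rw [hM]
    exact (MulAut.congr e).symm_apply_apply β
  have h2 := hπ M
  rw [h1] at h2
  have h4 : π β = 1 := h2 (by rw [← map_pow, h3, map_one])
  have h5 : π δ ^ 2 = 1 := by rw [← map_pow, hδ, hI]
  have h6 : π (gr (L := F) GraphD4.memD4 symmD4a) ^ 3 = 1 := by rw [← map_pow, hg3, map_one]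
  rw [hβ, map_mul, map_pow] at h4
  generalize π (gr (L := F) GraphD4.memD4 symmD4a) = g at *
  generalize π δ = d at *
  have h7 : d = (g ^ j)⁻¹ := eq_inv_of_mul_eq_one_left h4
  rw [h7] at h5
  have h8 : g ^ (j * 2) = 1 := by
    rw [inv_pow, inv_eq_one, ← pow_mul] at h5
    exact h5
  apply hgr
  rcases hj with rfl | rfl
  · calc g = g ^ 3 * (g ^ (1 * 2))⁻¹ := by group
      _ = 1 := by rw [h6, h8, inv_one, mul_one]
  · calc g = g ^ (2 * 2) * (g ^ 3)⁻¹ := by group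
      _ = 1 := by rw [h6, h8, inv_one, mul_one]

end Cfsg.Agent.H907.Tri9
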