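import Cfsg.Prelude.Def_Transfer
import Mathlib

/-!
# TRI-9 of S2187: pairs of commuting elements of order three
-/

set_option autoImplicit false

namespace Cfsg.Agent.H907.Tri9

open Subgroup

/-- `a`, `b` generate an elementary abelian group of order nine -/
structure Pair3 {G : Type*} [Group G] (a b : G) : Prop where
  ha : a ^ 3 = 1
  hb : b ^ 3 = 1
  comm : a * b = b * a
  ne : a ≠ 1
  nmem : b ∉ Subgroup.zpowers a

theorem Pair3.map {G G' : Type*} [Group G] [Group G'] {a b : G} (h : Pair3 a b) (f : G →* G')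
    (hf : Function.Injective f) : Pair3 (f a) (f b) where
  ha := by rw [← map_pow, h.ha, map_one]
  hb := by rw [← map_pow, h.hb, map_one]
  comm := by rw [← map_mul, h.comm, map_mul]
  ne := fun h1 => h.ne (hf (by rw [h1, map_one]))
  nmem := by
    rintro ⟨k, hk⟩
    exact h.nmem ⟨k, hf (by rw [← hk]; exact map_zpow f a k)⟩

theorem Pair3.nine {G : Type*} [Group G] {a b : G} (h : Pair3 a b) :
    ∃ A : Subgroup G, Cfsg.IsElementaryAbelian 3 A ∧ Nat.card ↥A = 9 ∧ a ∈ A ∧ b ∈ A ∧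
      ∀ K : Subgroup G, a ∈ K → b ∈ K → A ≤ K := by
  have hab : Commute a b := h.comm
  have hb1 : b ≠ 1 := by
    intro h1
    exact h.nmem (by rw [h1]; exact one_mem _)
  have oa : orderOf a = 3 := orderOf_eq_prime (hp := ⟨Nat.prime_three⟩) h.ha h.ne
  have ob : orderOf b = 3 := orderOf_eq_prime (hp := ⟨Nat.prime_three⟩) h.hb hb1
  have hc : ∀ (x : ↥(zpowers a)) (y : ↥(zpowers b)), Commute ((zpowers a).subtype x) ((zpowers b).subtype y) := by
    rintro ⟨_, i, rfl⟩ ⟨_, j, rfl⟩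
    exact (hab.zpow_zpow i j)
  let f : ↥(zpowers a) × ↥(zpowers b) →* G := MonoidHom.noncommCoprod (zpowers a).subtype (zpowers b).subtype hc
  have hf : Function.Injective f := by
    rw [injective_iff_map_eq_one]
    rintro ⟨x, y⟩ hxy
    have h1 : (x : G) * (y : G) = 1 := hxy
    obtain ⟨⟨j, hj⟩⟩ : Nonempty {j : ℤ // b ^ j = (y : G)} := by
      obtain ⟨j, hj⟩ := y.2
      exact ⟨⟨j, hj⟩⟩
    have h2 : b ^ j ∈ zpowers a := by
      rw [hj, eq_inv_of_mul_eq_one_right h1]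
      exact inv_mem x.2
    have hy : (y : G) = 1 := by
      by_contra hne
      apply h.nmem
      have h3 : ¬ (3 : ℤ) ∣ j := by
        rintro ⟨m, rfl⟩
        apply hne
        rw [← hj, zpow_mul]
        have : b ^ (3 : ℤ) = 1 := by exact_mod_cast h.hb
        rw [this, one_zpow]
      have h4 : IsCoprime j 3 := ((Prime.coprime_iff_not_dvd Int.prime_three).2 h3).symm
      obtain ⟨s, t, hst⟩ := h4
      have h5 : b = (b ^ j) ^ s := by
        rw [← zpow_mul]
        have e : b ^ (s * j + t * 3) = b := by rw [hst, zpow_one]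
        rw [zpow_add, zpow_mul b t 3] at e
        have : (b ^ t) ^ (3 : ℤ) = 1 := by
          rw [← zpow_mul, mul_comm, zpow_mul]
          have : b ^ (3 : ℤ) = 1 := by exact_mod_cast h.hb
          rw [this, one_zpow]
        rw [this, mul_one, mul_comm] at e
        exact e.symm
      rw [h5]
      exact zpow_mem h2 s
    rw [hy, mul_one] at h1
    exact Prod.ext (Subtype.ext h1) (Subtype.ext hy)
  refine ⟨f.range, ⟨⟨⟨?_⟩⟩, ?_⟩, ?_, ⟨(⟨a, mem_zpowers a⟩, 1), mul_one a⟩, ⟨(1, ⟨b, mem_zpowers b⟩), one_mul b⟩, ?_⟩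
  · rintro ⟨_, ⟨x, y⟩, rfl⟩ ⟨_, ⟨x', y'⟩, rfl⟩
    apply Subtype.ext
    change f (x, y) * f (x', y') = f (x', y') * f (x, y)
    rw [← map_mul, ← map_mul]
    congr 1
    obtain ⟨_, i, rfl⟩ := x
    obtain ⟨_, j, rfl⟩ := y
    obtain ⟨_, i', rfl⟩ := x'
    obtain ⟨_, j', rfl⟩ := y'
    exact Prod.ext (Subtype.ext ((Commute.refl a).zpow_zpow i i').eq) (Subtype.ext ((Commute.refl b).zpow_zpow j j').eq)
  · rintro _ ⟨⟨x, y⟩, rfl⟩
    rw [← map_pow]
    have e : ((x, y) : ↥(zpowers a) × ↥(zpowers b)) ^ 3 = 1 := by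
      obtain ⟨_, i, rfl⟩ := x
      obtain ⟨_, j, rfl⟩ := y
      refine Prod.ext (Subtype.ext ?_) (Subtype.ext ?_)
      · change (a ^ i) ^ 3 = 1
        rw [← zpow_natCast, ← zpow_mul, mul_comm, zpow_mul, zpow_natCast, h.ha, one_zpow]
      · change (b ^ j) ^ 3 = 1
        rw [← zpow_natCast, ← zpow_mul, mul_comm, zpow_mul, zpow_natCast, h.hb, one_zpow]
    rw [e, map_one]
  · rw [← Nat.card_congr (MonoidHom.ofInjective hf).toEquiv, Nat.card_prod, Nat.card_zpowers, Nat.card_zpowers, oa, ob]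
  · rintro K ha hb _ ⟨⟨x, y⟩, rfl⟩
    obtain ⟨_, i, rfl⟩ := x
    obtain ⟨_, j, rfl⟩ := y
    exact mul_mem (zpow_mem ha i) (zpow_mem hb j)

/-- an element of order dividing three commutes with a pair -/
theorem Pair3.exists_comm {H : Type*} [Group H] [Finite H] {a b t : H} (h : Pair3 a b) (ht : t ^ 3 = 1) :
    ∃ a' b' : H, Pair3 a' b' ∧ a' * t = t * a' ∧ b' * t = t * b' := by
  have h3 : Fact (Nat.Prime 3) := ⟨Nat.prime_three⟩
  by_cases ht1 : t = 1
  · subst ht1
    exact ⟨a, b, h, by rw [one_mul, mul_one], by rw [one_mul, mul_one]⟩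
  -- a Sylow subgroup containing `a`, `b` and a conjugate of `t`
  obtain ⟨A, -, hA9, haA, hbA, -⟩ := h.nine
  have hAp : IsPGroup 3 ↥A := IsPGroup.of_card (n := 2) (by rw [hA9]; norm_num)
  obtain ⟨P, hP⟩ := hAp.exists_le_sylow
  have htp : IsPGroup 3 ↥(zpowers t) := by
    refine IsPGroup.of_card (n := 1) ?_
    rw [Nat.card_zpowers, orderOf_eq_prime ht ht1, pow_one]
  obtain ⟨P', hP'⟩ := htp.exists_le_sylow
  obtain ⟨g, hg⟩ := MulAction.exists_smul_eq H P' P
  have htP : g * t * g⁻¹ ∈ P := by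
    rw [← hg]
    have h4 : t ∈ (P' : Subgroup H) := hP' (mem_zpowers t)
    have h5 := Subgroup.smul_mem_pointwise_smul t (MulAut.conj g) _ h4
    exact h5
  set t' := g * t * g⁻¹ with ht'
  have ht'1 : t' ≠ 1 := by
    intro h4
    apply ht1
    rw [ht', conj_eq_one_iff] at h4
    exact h4
  have ht'3 : t' ^ 3 = 1 := by rw [ht', conj_pow, ht, mul_one, mul_inv_cancel]
  -- it is enough to find a pair commuting with `t'`
  suffices hs : ∃ a' b' : H, Pair3 a' b' ∧ a' * t' = t' * a' ∧ b' * t' = t' * b' by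
    obtain ⟨a', b', hp, h1, h2⟩ := hs
    refine ⟨MulAut.conj g⁻¹ a', MulAut.conj g⁻¹ b', hp.map (MulAut.conj g⁻¹).toMonoidHom
      (MulAut.conj g⁻¹).injective, ?_, ?_⟩
    · have h6 : MulAut.conj g⁻¹ t' = t := by rw [ht', MulAut.conj_apply]; group
      rw [← h6, ← map_mul, h1, map_mul]
    · have h6 : MulAut.conj g⁻¹ t' = t := by rw [ht', MulAut.conj_apply]; group
      rw [← h6, ← map_mul, h2, map_mul]
  -- a central element of order three of `P`
  have hPn : Nontrivial ↥(P : Subgroup H) := ⟨⟨a, hP haA⟩, 1, fun h4 => h.ne (congrArg Subtype.val h4)⟩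
  have hZn : Nontrivial ↥(Subgroup.center ↥(P : Subgroup H)) := P.2.center_nontrivial
  have hZp : IsPGroup 3 ↥(Subgroup.center ↥(P : Subgroup H)) := P.2.to_subgroup _
  obtain ⟨z, hz⟩ := exists_prime_orderOf_dvd_card' (G := ↥(Subgroup.center ↥(P : Subgroup H))) 3
    ((hZp.nontrivial_iff_card).1 hZn |>.elim fun n hn => by
      rw [hn.2]; exact dvd_pow_self 3 hn.1.ne')
  have hz3 : ((z : ↥(P : Subgroup H)) : H) ^ 3 = 1 := by
    have h4 : z ^ 3 = 1 := orderOf_dvd_iff_pow_eq_one.1 hz.dvd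
    exact congrArg (fun w : ↥(Subgroup.center ↥(P : Subgroup H)) => ((w : ↥(P : Subgroup H)) : H)) h4
  have hz1 : ((z : ↥(P : Subgroup H)) : H) ≠ 1 := by
    intro h4
    have h5 : z = 1 := Subtype.ext (Subtype.ext h4)
    rw [h5, orderOf_one] at hz
    exact absurd hz (by norm_num)
  have hzc : ∀ y ∈ (P : Subgroup H), ((z : ↥(P : Subgroup H)) : H) * y = y * ((z : ↥(P : Subgroup H)) : H) := by
    intro y hy
    have h4 := Subgroup.mem_center_iff.1 z.2 ⟨y, hy⟩
    exact (congrArg Subtype.val h4).symm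
  by_cases htz : t' ∈ zpowers ((z : ↥(P : Subgroup H)) : H)
  · obtain ⟨k, hk⟩ := htz
    have hk' : ((z : ↥(P : Subgroup H)) : H) ^ k = t' := hk
    have hcomm : ∀ y ∈ (P : Subgroup H), y * t' = t' * y := by
      intro y hy
      have h4 : Commute ((z : ↥(P : Subgroup H)) : H) y := hzc y hy
      rw [← hk']
      exact ((h4.zpow_left k).eq).symm
    exact ⟨a, b, h, hcomm a (hP haA), hcomm b (hP hbA)⟩
  · exact ⟨_, t', ⟨hz3, ht'3, hzc t' htP, hz1, htz⟩, hzc t' htP, rfl⟩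

end Cfsg.Agent.H907.Tri9
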